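import Groth.Agent.EtMil7.Consequences
import Groth.Agent.LocalCrit.Flatness
import Groth.Agent.CAlgOdd.FlatDescFinite
import Groth.Agent.ArtFunLib.Hull.Ring
import Mathlib

/-!
# The least flattening ideal over a complete local ring
-/

set_option autoImplicit false
set_option linter.style.haveILetI false
set_option backward.isDefEq.respectTransparency.types false

universe u

open TensorProduct IsLocalRing

namespace Groth.Agent.FlatLeast6925

attribute [local instance] Algebra.TensorProduct.rightAlgebra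

/-- Flatness modulo two ideals gives flatness modulo their intersection. -/
theorem flat_quot_inf {R N : Type u} [CommRing R] [AddCommGroup N] [Module R N] {J K : Ideal R}
    [Module.Flat (R ⧸ J) ((R ⧸ J) ⊗[R] N)] [Module.Flat (R ⧸ K) ((R ⧸ K) ⊗[R] N)] :
    Module.Flat (R ⧸ (J ⊓ K)) ((R ⧸ (J ⊓ K)) ⊗[R] N) := by
  let A₀ := R ⧸ (J ⊓ K)
  let B := R ⧸ J
  let A' := R ⧸ K
  let A := R ⧸ (J ⊔ K)
  letI : Algebra A₀ B := (Ideal.Quotient.factor (inf_le_left : J ⊓ K ≤ J)).toAlgebra
  letI : Algebra A₀ A' := (Ideal.Quotient.factor (inf_le_right : J ⊓ K ≤ K)).toAlgebra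
  letI : Algebra B A := (Ideal.Quotient.factor (le_sup_left : J ≤ J ⊔ K)).toAlgebra
  letI : Algebra A' A := (Ideal.Quotient.factor (le_sup_right : K ≤ J ⊔ K)).toAlgebra
  letI : Algebra A₀ A := (Ideal.Quotient.factor (inf_le_left.trans le_sup_left : J ⊓ K ≤ J ⊔ K)).toAlgebra
  haveI : IsScalarTower A₀ B A := IsScalarTower.of_algebraMap_eq fun x => by
    obtain ⟨x, rfl⟩ := Ideal.Quotient.mk_surjective x; rfl
  haveI : IsScalarTower A₀ A' A := IsScalarTower.of_algebraMap_eq fun x => by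
    obtain ⟨x, rfl⟩ := Ideal.Quotient.mk_surjective x; rfl
  haveI : IsScalarTower R A₀ B := IsScalarTower.of_algebraMap_eq fun _ => rfl
  haveI : IsScalarTower R A₀ A' := IsScalarTower.of_algebraMap_eq fun _ => rfl
  have hsq : EtMil.IsFibreSquare A₀ B A' A := by
    refine ⟨Ideal.Quotient.factor_surjective _, fun b a' h => ?_⟩
    obtain ⟨b, rfl⟩ := Ideal.Quotient.mk_surjective b
    obtain ⟨a, rfl⟩ := Ideal.Quotient.mk_surjective a'
    change Ideal.Quotient.mk (J ⊔ K) b = Ideal.Quotient.mk (J ⊔ K) a at h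
    rw [Ideal.Quotient.eq] at h
    obtain ⟨j, hj, k, hk, hjk⟩ := Submodule.mem_sup.1 h
    refine ⟨Ideal.Quotient.mk _ (b - j), ⟨?_, ?_⟩, ?_⟩
    · show Ideal.Quotient.mk J (b - j) = _
      rw [Ideal.Quotient.eq]; simpa using neg_mem hj
    · show Ideal.Quotient.mk K (b - j) = _
      rw [Ideal.Quotient.eq]
      have e : b - j - a = k := by linear_combination -hjk
      rw [e]; exact hk
    · intro y hy
      obtain ⟨y, rfl⟩ := Ideal.Quotient.mk_surjective y
      obtain ⟨h1, h2⟩ := hy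
      change Ideal.Quotient.mk J y = Ideal.Quotient.mk J b at h1
      change Ideal.Quotient.mk K y = Ideal.Quotient.mk K a at h2
      rw [Ideal.Quotient.eq] at h1 h2 ⊢
      refine Submodule.mem_inf.2 ⟨?_, ?_⟩
      · have e : y - (b - j) = (y - b) + j := by ring
        rw [e]; exact J.add_mem h1 hj
      · have e : y - (b - j) = (y - a) - k := by linear_combination hjk
        rw [e]; exact K.sub_mem h2 hk
  haveI : Module.Flat B (B ⊗[A₀] (A₀ ⊗[R] N)) :=
    Module.Flat.of_linearEquiv (AlgebraTensorModule.cancelBaseChange R A₀ B B N)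
  haveI : Module.Flat A' (A' ⊗[A₀] (A₀ ⊗[R] N)) :=
    Module.Flat.of_linearEquiv (AlgebraTensorModule.cancelBaseChange R A₀ A' A' N)
  exact Groth.Agent.EtMil7.flat_of_flat_baseChange_pair hsq _

/-- Flatness modulo `I` from flatness modulo `I + 𝔪 ^ n` for all `n`. -/
theorem flat_quot_of_sup_pow {R S N : Type u} [CommRing R] [IsLocalRing R] [IsNoetherianRing R] [CommRing S]
    [IsLocalRing S] [IsNoetherianRing S] [Algebra R S] [IsLocalHom (algebraMap R S)] [AddCommGroup N] [Module S N]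
    [Module R N] [IsScalarTower R S N] [Module.Finite S N] (I : Ideal R)
    (h : ∀ n : ℕ, n ≠ 0 → Module.Flat (R ⧸ (I ⊔ maximalIdeal R ^ n)) ((R ⧸ (I ⊔ maximalIdeal R ^ n)) ⊗[R] N)) :
    Module.Flat (R ⧸ I) ((R ⧸ I) ⊗[R] N) := by
  let A := R ⧸ I
  let B := A ⊗[R] S
  haveI : IsNoetherianRing B := isNoetherianRing_of_surjective S B
    (Algebra.TensorProduct.includeRight : S →ₐ[R] B).toRingHom
    (TensorProduct.mk_surjective R S A Ideal.Quotient.mk_surjective)
  let 𝔪 : Ideal A := (maximalIdeal R).map (Ideal.Quotient.mk I)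
  haveI : Module.Flat A (B ⊗[S] N) := by
    refine Groth.Agent.LocalCrit.flat_of_forall_quotient_pow (R := A) (B := B) (M := B ⊗[S] N) 𝔪 ?_ fun n => ?_
    · rw [Ideal.jacobson, le_sInf_iff]
      rintro M ⟨-, hM⟩
      have hMS : M.comap (algebraMap S B) = maximalIdeal S :=
        IsLocalRing.eq_maximalIdeal (Ideal.comap_isMaximal_of_surjective (algebraMap S B)
          (fun y => TensorProduct.mk_surjective R S A Ideal.Quotient.mk_surjective y))
      rw [Ideal.map_map, Ideal.map_le_iff_le_comap]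
      intro x hx
      have hx' : algebraMap R S x ∈ maximalIdeal S := map_nonunit (algebraMap R S) x hx
      rw [← hMS, Ideal.mem_comap, ← IsScalarTower.algebraMap_apply R S B] at hx'
      rw [Ideal.mem_comap, RingHom.comp_apply]
      rwa [← Ideal.Quotient.algebraMap_eq, ← IsScalarTower.algebraMap_apply R A B]
    · rcases Nat.eq_zero_or_pos n with rfl | hn
      · rw [pow_zero, Ideal.one_eq_top]
        intro P P' _ _ _ _ g hP hP' hg
        haveI : Subsingleton P := ⟨fun a b => by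
          have ha := @hP a ⟨1, trivial⟩
          have hb := @hP b ⟨1, trivial⟩
          simp only [one_smul] at ha hb
          rw [ha, hb]⟩
        exact Function.injective_of_subsingleton _
      · haveI : Module.Flat (A ⧸ 𝔪 ^ n) ((A ⧸ 𝔪 ^ n) ⊗[A] (B ⊗[S] N)) := by
          haveI := h n hn.ne'
          haveI : Module.Flat (A ⧸ 𝔪 ^ n) ((A ⧸ 𝔪 ^ n) ⊗[R] N) :=
            Groth.Agent.CAlgOdd.FlatDesc.flat_baseChange N (I ⊔ maximalIdeal R ^ n) (A ⧸ 𝔪 ^ n) (by
              rw [Ideal.map_eq_bot_iff_le_ker, sup_le_iff]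
              refine ⟨fun x hx => ?_, fun x hx => ?_⟩
              · show Ideal.Quotient.mk (𝔪 ^ n) (Ideal.Quotient.mk I x) = 0
                rw [Ideal.Quotient.eq_zero_iff_mem.2 hx, map_zero]
              · show Ideal.Quotient.mk (𝔪 ^ n) (Ideal.Quotient.mk I x) = 0
                rw [Ideal.Quotient.eq_zero_iff_mem, ← Ideal.map_pow]
                exact Ideal.mem_map_of_mem _ hx)
          exact Module.Flat.of_linearEquiv ((AlgebraTensorModule.congr (LinearEquiv.refl (A ⧸ 𝔪 ^ n) (A ⧸ 𝔪 ^ n))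
            (Algebra.IsPushout.cancelBaseChange R A S B N)).trans
            (AlgebraTensorModule.cancelBaseChange R A (A ⧸ 𝔪 ^ n) (A ⧸ 𝔪 ^ n) N))
        exact Groth.Agent.LocalCrit.keepsInjective_of_flat _ _
  exact Module.Flat.of_linearEquiv (Algebra.IsPushout.cancelBaseChange R A S B N).symm

/-- A property of ideals closed upwards and under finite intersections has a least member. -/
theorem exists_least {R : Type u} [CommRing R] [IsLocalRing R] [IsNoetherianRing R]
    [IsAdicComplete (maximalIdeal R) R] (G : Ideal R → Prop) (hm : G (maximalIdeal R))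
    (hmono : ∀ J K, J ≤ K → G J → G K) (hinf : ∀ J K, G J → G K → G (J ⊓ K))
    (hlim : ∀ I, (∀ n : ℕ, n ≠ 0 → G (I ⊔ maximalIdeal R ^ n)) → G I) :
    ∃ I : Ideal R, I ≤ maximalIdeal R ∧ G I ∧ ∀ J, G J → I ≤ J := by
  let m := maximalIdeal R
  have hleast : ∀ n : ℕ, ∃ L : Ideal R, (G L ∧ m ^ (n + 1) ≤ L) ∧ ∀ J, G J → m ^ (n + 1) ≤ J → L ≤ J := by
    intro n
    haveI := Groth.Agent.ArtFunLib.Hull.isArtinianRing_quotient_pow m (n + 1)
    obtain ⟨L', ⟨L, ⟨hL, hLm⟩, rfl⟩, hmin⟩ := IsArtinian.set_has_minimal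
      {Q : Submodule (R ⧸ m ^ (n + 1)) (R ⧸ m ^ (n + 1)) | ∃ J : Ideal R, (G J ∧ m ^ (n + 1) ≤ J) ∧
        J.map (Ideal.Quotient.mk (m ^ (n + 1))) = Q}
      ⟨_, m, ⟨hm, Ideal.pow_le_self (by omega)⟩, rfl⟩
    refine ⟨L, ⟨hL, hLm⟩, fun J hJ hJm => ?_⟩
    have h1 : ¬ (L ⊓ J).map (Ideal.Quotient.mk (m ^ (n + 1))) < L.map (Ideal.Quotient.mk (m ^ (n + 1))) :=
      hmin _ ⟨_, ⟨hinf _ _ hL hJ, le_inf hLm hJm⟩, rfl⟩
    have h2 := eq_of_le_of_not_lt (Ideal.map_mono inf_le_left) h1
    have h3 := congrArg (Ideal.comap (Ideal.Quotient.mk (m ^ (n + 1)))) h2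
    rw [Ideal.comap_map_of_surjective _ Ideal.Quotient.mk_surjective,
      Ideal.comap_map_of_surjective _ Ideal.Quotient.mk_surjective, ← RingHom.ker_eq_comap_bot, Ideal.mk_ker,
      sup_eq_left.2 hLm, sup_eq_left.2 (le_inf hLm hJm)] at h3
    exact h3.ge.trans inf_le_right
  choose K hK hKmin using hleast
  have hanti : ∀ {p q}, p ≤ q → K q ≤ K p := fun {p q} h =>
    hKmin q _ (hK p).1 ((Ideal.pow_le_pow_right (by omega)).trans (hK p).2)
  refine ⟨⨅ p, K p, (iInf_le _ 0).trans (hKmin 0 _ hm (by simp [m])), hlim _ fun n _ => ?_, fun J hJ => ?_⟩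
  · obtain ⟨q, hq⟩ := Groth.Agent.ArtFunLib.Hull.chevalley m K hanti (fun q => ⟨q + 1, (hK q).2⟩) n
    exact hmono _ _ hq (hK q).1
  · rcases eq_or_ne J ⊤ with rfl | hJ0
    · exact le_top
    intro x hx
    rw [Submodule.mem_iInf] at hx
    haveI : Nontrivial (R ⧸ J) := Ideal.Quotient.nontrivial_iff.2 hJ0
    haveI : IsLocalRing (R ⧸ J) := IsLocalRing.of_surjective' (Ideal.Quotient.mk J) Ideal.Quotient.mk_surjective
    have h0 : Ideal.Quotient.mk J x ∈ ⨅ i : ℕ, maximalIdeal (R ⧸ J) ^ i := by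
      rw [Submodule.mem_iInf]
      intro i
      rcases Nat.eq_zero_or_pos i with rfl | hi
      · simp
      have h1 := Ideal.mem_map_of_mem (Ideal.Quotient.mk J)
        (hKmin (i - 1) (J ⊔ m ^ (i - 1 + 1)) (hmono _ _ le_sup_left hJ) le_sup_right (hx (i - 1)))
      rw [Ideal.map_sup, Ideal.map_quotient_self, bot_sup_eq, Ideal.map_pow,
        IsLocalRing.map_maximalIdeal_of_surjective _ Ideal.Quotient.mk_surjective, Nat.sub_add_cancel hi] at h1
      exact h1
    rw [Ideal.iInf_pow_eq_bot_of_isLocalRing _ (maximalIdeal.isMaximal _).ne_top] at h0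
    exact Ideal.Quotient.eq_zero_iff_mem.1 h0

end Groth.Agent.FlatLeast6925
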